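import Cfsg.Agent.H627.BR.EasyCore
import Cfsg.Agent.S4951

/-!
# S4891, step (R6): the direction `⇒`
-/

set_option autoImplicit false

open Subgroup

namespace Cfsg.Agent.H627.BR

open Cfsg Cfsg.Agent.H145.BR

universe u

variable {p : ℕ} [hp : Fact p.Prime]

/-- **(R6)** the direction `⇒` of S4891 -/
theorem easy (hp2 : p ≠ 2) {M : Ideal AlgInt} (hM : IsPModular p M) {G : Type u} [Group G] [Finite G]
    (P : Sylow p G) (hN : HasNormalPComplement p ↥(normalizer ((P : Subgroup G) : Set G))) (χ : IrrCharacter G)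
    (h1 : χ ∈ principalBlock M G) (h2 : ¬ p ∣ charDegree (χ : G → ℂ)) (h3 : PRat p (χ : G → ℂ)) :
    (χ : G → ℂ) = fun _ => (1 : ℂ) := by
  letI := Fintype.ofFinite G
  letI := Fintype.ofFinite ↥(normalizer ((P : Subgroup G) : Set G))
  obtain ⟨hA, hB⟩ := S4951.result p hp2 M hM P (dec_of_compl P hN)
  exact easy_core hp2 hM P hN hA hB χ h1 h2 h3

end Cfsg.Agent.H627.BR
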