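import Mathlib
import Cfsg.Agent.H145.BR.Defs
import Cfsg.Agent.H700.PrinCrit
import Cfsg.Agent.S0965

/-!
# S4891, step (R1)

A character of degree prime to `p` over a character of the principal block of a normal subgroup which contains the
centralizer of a Sylow `p`-subgroup lies in the principal block.
-/

set_option autoImplicit false

open Subgroup

namespace Cfsg.Agent.H627.BR

open Cfsg Cfsg.Agent.H145.BR Cfsg.Agent.Blocks.Local Cfsg.Agent.Blocks.Basic Cfsg.Agent.H700.PrinCrit

universe u

variable {p : ℕ} [hp : Fact p.Prime]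

/-- `χ` lies over the function `θ` on `N` (`N` finite) -/
def Ov {G : Type u} [Group G] (N : Subgroup G) [Finite N] (χ : G → ℂ) (θ : N → ℂ) : Prop :=
  letI := Fintype.ofFinite N
  classInner (fun x : N => χ x) θ ≠ 0

theorem ov_iff {G : Type u} [Group G] (N : Subgroup G) [Fintype N] (χ : G → ℂ) (θ : N → ℂ) :
    Ov N χ θ ↔ classInner (fun x : N => χ x) θ ≠ 0 := by
  unfold Ov
  rw [Subsingleton.elim (Fintype.ofFinite N) (inferInstance : Fintype N)]

/-- central characters on a normal subgroup, from block to block -/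
theorem centralChar_sub_of_over {M : Ideal AlgInt} (hM : IsPModular p M) {G : Type u} [Group G] [Finite G]
    (N : Subgroup G) [N.Normal] (ψ : IrrCharacter N) (hψ : ψ ∈ principalBlock M N) (χ : IrrCharacter G)
    (ho : Ov N (χ : G → ℂ) ψ) (n : N) :
    MemLocalIdeal M (centralChar (fun _ : G => (1 : ℂ)) (n : G) - centralChar (χ : G → ℂ) (n : G)) := by
  have := Fintype.ofFinite G
  have := Fintype.ofFinite N
  have hMp : M.IsPrime := isPrime_of_isPModular hM
  rw [ov_iff] at ho
  have h1 := (S0965.result p M hM N (blockOf M (χ : G → ℂ)) (isPBlock_blockOf χ) (principalBlock M N)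
    (isPBlock_principal M N)).1 ⟨χ, mem_blockOf_self χ, ψ, hψ, ho⟩ χ (mem_blockOf_self χ) (oneIrr N)
    one_mem_principal n
  have h2 := (S0965.result p M hM N (principalBlock M G) (isPBlock_principal M G) (principalBlock M N)
    (isPBlock_principal M N)).1 ⟨oneIrr G, one_mem_principal, oneIrr N, one_mem_principal, by
      have h3 : classInner (fun n : N => ((oneIrr G : IrrCharacter G) : G → ℂ) n) (oneIrr N : N → ℂ) = 1 := by
        show classInner (fun _ : N => (1 : ℂ)) (fun _ : N => (1 : ℂ)) = 1
        rw [classInner_def]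
        simp
      rw [h3]
      exact one_ne_zero⟩ (oneIrr G) one_mem_principal (oneIrr N) one_mem_principal n
  have h3 := memLocalIdeal_sub h2 h1
  rwa [sub_sub_sub_cancel_right] at h3

/-- (R1) a character of degree prime to `p` over a character of the principal block of a normal subgroup containing
the centralizer of a Sylow `p`-subgroup lies in the principal block -/
theorem mem_of_over {M : Ideal AlgInt} (hM : IsPModular p M) {G : Type u} [Group G] [Finite G] (P : Sylow p G)
    (N : Subgroup G) [N.Normal] (hC : centralizer ((P : Subgroup G) : Set G) ≤ N) (ψ : IrrCharacter N)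
    (hψ : ψ ∈ principalBlock M N) (χ : IrrCharacter G) (ho : Ov N (χ : G → ℂ) ψ) (hd : ¬ p ∣ charDegree (χ : G → ℂ)) :
    χ ∈ principalBlock M G := by
  have hMp : M.IsPrime := isPrime_of_isPModular hM
  rw [mem_principalBlock_iff hM P.2 P.not_dvd_index χ hd]
  intro x hx
  have h1 := centralChar_sub_of_over hM N ψ hψ χ ho ⟨x, hC hx⟩
  have hχ1 : (χ : G → ℂ) 1 = (charDegree (χ : G → ℂ) : ℂ) := irr_one_eq_charDegree χ.2
  have hne : (χ : G → ℂ) 1 ≠ 0 := irr_one_ne_zero χ.2
  have hi : ¬ p ∣ (centralizer ({x} : Set G)).index := not_dvd_index_of_mem_centralizer P.not_dvd_index hx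
  have hi0 : ((centralizer ({x} : Set G)).index : ℂ) ≠ 0 := by
    intro h0
    rw [Nat.cast_eq_zero] at h0
    rw [h0] at hi
    exact hi (dvd_zero p)
  have h2 : MemLocalIdeal M ((χ : G → ℂ) 1 * (((centralizer ({x} : Set G)).index : ℂ)⁻¹ *
      (centralChar (fun _ : G => (1 : ℂ)) x - centralChar (χ : G → ℂ) x))) := by
    apply memLocalIdeal_mul_left (memLocalRing_irr χ.2 1)
    exact memLocalIdeal_mul_left (memLocalRing_inv_natCast hM hi) h1
  have h3 : (χ : G → ℂ) 1 * (((centralizer ({x} : Set G)).index : ℂ)⁻¹ *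
      (centralChar (fun _ : G => (1 : ℂ)) x - centralChar (χ : G → ℂ) x)) = (χ : G → ℂ) 1 - (χ : G → ℂ) x := by
    rw [centralChar_def, centralChar_def]
    field_simp
  rw [h3] at h2
  exact memLocalIdeal_sub_comm h2

end Cfsg.Agent.H627.BR
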