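import Mathlib
import Cfsg.Agent.H627.BR.Over
import Cfsg.Agent.H700.PRatExt
import Cfsg.Agent.S4583
import Cfsg.Agent.S0854

/-!
# S4891, step (R0)

A `p`-regular element which centralizes a Sylow `p`-subgroup of the normal subgroup `N` fixes the characters of `N` of
degree prime to `p` in the principal block.
-/

set_option autoImplicit false

open Subgroup

namespace Cfsg.Agent.H627.BR

open Cfsg Cfsg.Agent.H145.BR Cfsg.Agent.Blocks.Local Cfsg.Agent.Blocks.Basic Cfsg.Agent.H700.PrinCrit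
  Cfsg.Agent.H700.PrinExt Cfsg.Agent.H700.PRatExt

universe u

variable {p : ℕ} [hp : Fact p.Prime]

/-- the inertia group -/
def Inr {G : Type u} [Group G] (N : Subgroup G) [N.Normal] (θ : N → ℂ) : Subgroup G where
  carrier := {g | ∀ n : N, θ (MulAut.conjNormal g n) = θ n}
  one_mem' := fun n => by simp
  mul_mem' := by
    intro a b ha hb n
    rw [map_mul, MulAut.mul_apply, ha, hb]
  inv_mem' := by
    intro a ha n
    have h := ha (MulAut.conjNormal a⁻¹ n)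
    rw [← MulAut.mul_apply, ← map_mul, mul_inv_cancel, map_one, MulAut.one_apply] at h
    exact h.symm

theorem mem_inr {G : Type u} [Group G] {N : Subgroup G} [N.Normal] {θ : N → ℂ} {g : G} :
    g ∈ Inr N θ ↔ ∀ n : N, θ (MulAut.conjNormal g n) = θ n := Iff.rfl

theorem le_inr {G : Type u} [Group G] {N : Subgroup G} [N.Normal] (θ : IrrCharacter N) : N ≤ Inr N (θ : N → ℂ) := by
  intro g hg n
  exact irr_conj θ.2 n ⟨g, hg⟩

theorem conj_fixed_aux {M : Ideal AlgInt} (hM : IsPModular p M) {G : Type u} [Group G] [Finite G]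
    (N : Subgroup G) [hN : N.Normal] (P : Sylow p G) (hPN : (P : Subgroup G) ≤ N) (θ : IrrCharacter N)
    (hθ : θ ∈ principalBlock M N) (hd : ¬ p ∣ charDegree (θ : N → ℂ)) (x : G)
    (hx : x ∈ centralizer ((P : Subgroup G) : Set G)) (hgen : N ⊔ zpowers x = ⊤) : x ∈ Inr N (θ : N → ℂ) := by
  classical
  have := Fintype.ofFinite G
  have := Fintype.ofFinite N
  have hMp : M.IsPrime := isPrime_of_isPModular hM
  have heq : N ⊔ (P : Subgroup G) = N := sup_eq_left.2 hPN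
  obtain ⟨χ, h1, h2, h3⟩ := S4583.result N p M hM P θ hθ hd
    ⟨mapIrr (MulEquiv.subgroupCongr heq) θ, fun n => by rw [mapIrr_apply]; rfl⟩
  have h3' : classInner (fun n : N => (χ : G → ℂ) n) (θ : N → ℂ) ≠ 0 := (ov_iff N _ _).1 h3
  have h4 := (mem_principalBlock_iff hM P.2 P.not_dvd_index χ h2).1 h1 x hx
  have h5 : (χ : G → ℂ) x ≠ 0 := by
    intro h0
    rw [h0, zero_sub, irr_one_eq_charDegree χ.2] at h4
    have h6 := memLocalIdeal_neg h4
    rw [neg_neg, memLocalIdeal_natCast_iff hM] at h6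
    exact h2 h6
  have := Fintype.ofFinite (Inr N (θ : N → ℂ))
  obtain ⟨ψ, hψ, hind, -⟩ := S0854.result N (θ : N → ℂ) θ.2 (Inr N (θ : N → ℂ)) (fun g => Iff.rfl) (le_inr θ)
    (χ : G → ℂ) χ.2 h3'
  rw [← hind] at h5
  unfold indFun at h5
  have h6 : ∃ y : G, extendByZero (Inr N (θ : N → ℂ)) ψ (y⁻¹ * x * y) ≠ 0 := by
    by_contra hcon
    push Not at hcon
    apply h5
    rw [Finset.sum_eq_zero fun y _ => hcon y, mul_zero]
  obtain ⟨y, hy⟩ := h6
  have h7 : y⁻¹ * x * y ∈ Inr N (θ : N → ℂ) := by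
    by_contra hcon
    apply hy
    unfold extendByZero
    rw [Function.extend_apply']
    · rfl
    · rintro ⟨a, ha⟩
      exact hcon (ha ▸ a.2)
  -- `y⁻¹ x y x⁻¹ ∈ N`
  have h8 : y⁻¹ * x * y * x⁻¹ ∈ N := by
    obtain ⟨n, hn, z, hz, rfl⟩ := Subgroup.mem_sup_of_normal_left.1 (show y ∈ N ⊔ zpowers x from hgen ▸ mem_top y)
    obtain ⟨k, rfl⟩ := mem_zpowers_iff.1 hz
    have e : (n * x ^ k)⁻¹ * x * (n * x ^ k) * x⁻¹ = (x ^ k)⁻¹ * (n⁻¹ * (x * n * x⁻¹)) * (x ^ k)⁻¹⁻¹ := by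
      have hc : x ^ k * x⁻¹ = x⁻¹ * x ^ k := by
        rw [← zpow_neg_one, ← zpow_add, ← zpow_add, add_comm]
      calc (n * x ^ k)⁻¹ * x * (n * x ^ k) * x⁻¹ = (x ^ k)⁻¹ * n⁻¹ * x * n * (x ^ k * x⁻¹) := by group
        _ = _ := by rw [hc]; group
    rw [e]
    exact hN.conj_mem _ (N.mul_mem (N.inv_mem hn) (hN.conj_mem n hn x)) _
  have h9 : y⁻¹ * x * y = (y⁻¹ * x * y * x⁻¹) * x := by group
  rw [h9] at h7
  exact (Subgroup.mul_mem_cancel_left _ (le_inr θ h8)).1 h7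

/-- (R0) a `p`-regular element which centralizes a Sylow `p`-subgroup `Q` of the normal subgroup `N` fixes the
characters of `N` of degree prime to `p` in the principal block -/
theorem conj_fixed {M : Ideal AlgInt} (hM : IsPModular p M) {G : Type u} [Group G] [Finite G]
    (N : Subgroup G) [hN : N.Normal] (Q : Subgroup G) (hQ : IsPGroup p Q) (hQN : Q ≤ N) (hQi : ¬ p ∣ Q.relIndex N)
    (θ : IrrCharacter N) (hθ : θ ∈ principalBlock M N) (hd : ¬ p ∣ charDegree (θ : N → ℂ)) (x : G)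
    (hx : x ∈ centralizer (Q : Set G)) (hreg : ¬ p ∣ orderOf x) :
    ∀ n : N, (θ : N → ℂ) (MulAut.conjNormal x n) = (θ : N → ℂ) n := by
  have hNR : N ≤ N ⊔ zpowers x := le_sup_left
  have hxR : x ∈ N ⊔ zpowers x := le_sup_right (α := Subgroup G) (mem_zpowers x)
  have hNRn : (N.subgroupOf (N ⊔ zpowers x)).Normal := hN.subgroupOf _
  have hi : ¬ p ∣ N.relIndex (N ⊔ zpowers x) := by
    intro h
    have h1 : N.relIndex (N ⊔ zpowers x) = N.relIndex (zpowers x) := by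
      rw [sup_comm]; exact Subgroup.relIndex_sup_right (zpowers x) N
    rw [h1] at h
    apply hreg
    rw [← Nat.card_zpowers]
    exact h.trans (Subgroup.relIndex_dvd_card _ _)
  have hQR : Q.relIndex N * N.relIndex (N ⊔ zpowers x) = Q.relIndex (N ⊔ zpowers x) :=
    Subgroup.relIndex_mul_relIndex _ _ _ hQN hNR
  have hQp : IsPGroup p (Q.subgroupOf (N ⊔ zpowers x)) := hQ.comap_subtype
  have hQi' : ¬ p ∣ (Q.subgroupOf (N ⊔ zpowers x)).index := by
    intro h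
    have h2 : p ∣ Q.relIndex (N ⊔ zpowers x) := h
    rw [← hQR, hp.out.dvd_mul] at h2
    exact h2.elim hQi hi
  have key := conj_fixed_aux hM (G := ↥(N ⊔ zpowers x)) (N.subgroupOf (N ⊔ zpowers x)) (hQp.toSylow hQi')
    (Subgroup.comap_mono hQN) (up N θ hNR) (mapIrr_mem _ hθ) (by rw [up_degree]; exact hd) ⟨x, hxR⟩ ?_ ?_
  · intro n
    have h1 := key ⟨⟨n, hNR n.2⟩, n.2⟩
    rw [up_apply, up_apply] at h1
    exact h1
  · rw [Subgroup.mem_centralizer_iff]
    intro y hy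
    apply Subtype.ext
    exact Subgroup.mem_centralizer_iff.1 hx (y : G) hy
  · rw [eq_top_iff]
    rintro ⟨y, hy⟩ -
    obtain ⟨n, hn, z, hz, rfl⟩ := Subgroup.mem_sup_of_normal_left.1 hy
    obtain ⟨k, rfl⟩ := mem_zpowers_iff.1 hz
    have e : (⟨n * x ^ k, hy⟩ : ↥(N ⊔ zpowers x)) = ⟨n, hNR hn⟩ * ⟨x, hxR⟩ ^ k := by
      apply Subtype.ext
      rw [Subgroup.coe_mul, Subgroup.coe_zpow]
    rw [e]
    exact Subgroup.mul_mem _ (le_sup_left (α := Subgroup _) (show (⟨n, hNR hn⟩ : ↥(N ⊔ zpowers x)) ∈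
      N.subgroupOf (N ⊔ zpowers x) from hn)) (le_sup_right (α := Subgroup _) (zpow_mem (mem_zpowers _) k))

end Cfsg.Agent.H627.BR
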