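import Mathlib
import Cfsg.Agent.H627.BR.Fix
import Cfsg.Agent.H627.BR.Grp
import Cfsg.Agent.H633.Principal
import Cfsg.Agent.Lib.SubnormalJoin
import Cfsg.Agent.S4892
import Cfsg.Agent.S0964

/-!
# S4891, step (R5): the direction `⇐`, from Lemma L, Theorem N and the existence of a witness
-/

set_option autoImplicit false

open Subgroup
open scoped Pointwise

namespace Cfsg.Agent.H627.BR

open Cfsg Cfsg.Agent.H145.BR Cfsg.Agent.Blocks.Local Cfsg.Agent.Blocks.Basic Cfsg.Agent.H700.PrinCrit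
  Cfsg.Agent.H700.PrinExt Cfsg.Agent.H700.PRatExt Cfsg.Agent.H633.Principal

universe u

/-- Lemma L (statement) -/
def LemL (p : ℕ) [Fact p.Prime] : Prop :=
  ∀ {G : Type u} [Group G] [Finite G] (P : Sylow p G) (N : Subgroup G) [N.Normal], SN (P : Subgroup G) N →
    ∀ ψ : IrrCharacter N, ¬ p ∣ charDegree (ψ : N → ℂ) → PRat p (ψ : N → ℂ) →
      (∀ g ∈ (P : Subgroup G), ∀ x : N, (ψ : N → ℂ) (MulAut.conjNormal g x) = (ψ : N → ℂ) x) →
      ∃ χ : IrrCharacter G, ¬ p ∣ charDegree (χ : G → ℂ) ∧ PRat p (χ : G → ℂ) ∧ Ov N (χ : G → ℂ) ψ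

/-- Theorem N (statement) -/
def ThmN (p : ℕ) [Fact p.Prime] : Prop :=
  ∀ {G : Type u} [Group G] [Finite G] (P : Sylow p G), (∀ χ : IrrCharacter G, ¬ p ∣ charDegree (χ : G → ℂ) →
    PRat p (χ : G → ℂ) → (χ : G → ℂ) = fun _ => (1 : ℂ)) → normalizer ((P : Subgroup G) : Set G) = (P : Subgroup G)

/-- the witness for a nonabelian minimal normal subgroup (statement) -/
def ExTh (p : ℕ) [Fact p.Prime] : Prop :=
  ∀ {M : Ideal AlgInt}, IsPModular p M → ∀ {G : Type u} [Group G] [Finite G]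
    (P : Sylow p G) (N : Subgroup G) [N.Normal], (∀ K : Subgroup G, K.Normal → K ≤ N → K = ⊥ ∨ K = N) →
    (¬ ∀ x ∈ N, ∀ y ∈ N, Commute x y) → p ∣ Nat.card N →
    (∃ θ : IrrCharacter N, Wit p M N θ ∧
      ∀ g ∈ (P : Subgroup G), ∀ x : N, (θ : N → ℂ) (MulAut.conjNormal g x) = (θ : N → ℂ) x) ∨
    (∀ g ∈ N, ¬ p ∣ orderOf g → (∀ x ∈ (P : Subgroup G), g * x * g⁻¹ ∈ (P : Subgroup G)) → g = 1)

/-- the hypothesis of the theorem -/
def XX (p : ℕ) (M : Ideal AlgInt) (G : Type u) [Group G] : Prop :=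
  ∀ χ : IrrCharacter G, χ ∈ principalBlock M G → ¬ p ∣ charDegree (χ : G → ℂ) → PRat p (χ : G → ℂ) →
    (χ : G → ℂ) = fun _ => (1 : ℂ)

variable {p : ℕ} [hp : Fact p.Prime] {M : Ideal AlgInt}

omit hp in
theorem pRat_comp {G H : Type*} {χ : G → ℂ} (f : H → G) (h : PRat p χ) : PRat p (χ ∘ f) := by
  obtain ⟨n, hn, h⟩ := h
  exact ⟨n, hn, fun g => h (f g)⟩

omit hp in
theorem infl_facts {G : Type u} [Group G] (K : Subgroup G) [K.Normal] {χ : IrrCharacter (G ⧸ K)}
    (hd : ¬ p ∣ charDegree (χ : G ⧸ K → ℂ)) (hr : PRat p (χ : G ⧸ K → ℂ)) :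
    ¬ p ∣ charDegree (infl K χ : G → ℂ) ∧ PRat p (infl K χ : G → ℂ) ∧
      ((infl K χ : G → ℂ) = (fun _ => (1 : ℂ)) → (χ : G ⧸ K → ℂ) = fun _ => (1 : ℂ)) := by
  refine ⟨?_, pRat_comp (QuotientGroup.mk : G → G ⧸ K) hr, ?_⟩
  · have h1 : (infl K χ : G → ℂ) 1 = (χ : G ⧸ K → ℂ) 1 := by rw [infl_apply, QuotientGroup.mk_one]
    rw [charDegree_def, h1, ← charDegree_def]
    exact hd
  · intro h
    funext y
    obtain ⟨x, rfl⟩ := QuotientGroup.mk_surjective y
    have := congrFun h x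
    rwa [infl_apply] at this

omit hp in
theorem XX.quot (hM : IsPModular p M) {G : Type u} [Group G] (h : XX p M G) (K : Subgroup G) [K.Normal] :
    XX p M (G ⧸ K) := by
  have hMp : M.IsPrime := isPrime_of_isPModular hM
  intro χ hχ hd hr
  obtain ⟨h1, h2, h3⟩ := infl_facts K hd hr
  exact h3 (h _ (inflate_mem K hχ) h1 h2)

/-- inflated characters lie over the trivial character -/
theorem ov_infl {G : Type u} [Group G] [Finite G] (K : Subgroup G) [K.Normal] (χ : IrrCharacter (G ⧸ K)) :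
    Ov K (infl K χ : G → ℂ) (oneIrr K : K → ℂ) := by
  have := Fintype.ofFinite K
  rw [ov_iff]
  have h1 : ∀ x : K, (infl K χ : G → ℂ) x = (χ : G ⧸ K → ℂ) 1 := by
    intro x
    rw [infl_apply, (QuotientGroup.eq_one_iff (x : G)).2 x.2]
  rw [classInner_def]
  show (Nat.card K : ℂ)⁻¹ * ∑ x : K, (infl K χ : G → ℂ) x * (starRingEnd ℂ) (1 : ℂ) ≠ 0
  rw [Finset.sum_congr rfl fun x _ => by rw [h1 x]]
  rw [Finset.sum_const, Finset.card_univ, nsmul_eq_mul, map_one, mul_one]
  refine mul_ne_zero (inv_ne_zero (by exact_mod_cast Nat.card_pos.ne')) (mul_ne_zero ?_ (irr_one_ne_zero χ.2))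
  exact_mod_cast Fintype.card_ne_zero

/-- Theorem N for the quotient by a normal subgroup containing `C_G(P)` -/
theorem sn_of_XX (hM : IsPModular p M) (hN : ThmN.{u} p) {G : Type u} [Group G] [Finite G] (P : Sylow p G)
    (h : XX p M G) (K : Subgroup G) [K.Normal] (hC : centralizer ((P : Subgroup G) : Set G) ≤ K) :
    SN (P : Subgroup G) K := by
  have hMp : M.IsPrime := isPrime_of_isPModular hM
  apply sn_of_quot
  have h1 := hN (P.mapSurjective (QuotientGroup.mk'_surjective K)) (by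
    intro χ hd hr
    obtain ⟨h1, h2, h3⟩ := infl_facts K hd hr
    exact h3 (h _ (mem_of_over hM P K hC (oneIrr K) one_mem_principal _ (ov_infl K χ) h1) h1 h2))
  exact h1

/-- the induction step for a quotient -/
theorem comm_quot (hM : IsPModular p M) {G : Type u} [Group G] [Finite G] (P : Sylow p G) (h : XX p M G)
    (K : Subgroup G) [K.Normal]
    (ih : ∀ (P : Sylow p (G ⧸ K)), XX p M (G ⧸ K) → ∀ g : G ⧸ K, ¬ p ∣ orderOf g →
      (∀ x ∈ (P : Subgroup (G ⧸ K)), g * x * g⁻¹ ∈ (P : Subgroup (G ⧸ K))) → ∀ x ∈ (P : Subgroup (G ⧸ K)), g * x = x * g)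
    {g : G} (hr : ¬ p ∣ orderOf g) (hgP : ∀ x ∈ (P : Subgroup G), g * x * g⁻¹ ∈ (P : Subgroup G)) :
    ∀ x ∈ (P : Subgroup G), g * x * g⁻¹ * x⁻¹ ∈ K := by
  intro x hx
  have h1 := ih (P.mapSurjective (QuotientGroup.mk'_surjective K)) (h.quot hM K) (g : G ⧸ K)
    (fun hdvd => hr (hdvd.trans (orderOf_map_dvd (QuotientGroup.mk' K) g))) (by
      rintro _ ⟨y, hy, rfl⟩
      exact ⟨g * y * g⁻¹, hgP y hy, by simp⟩) (x : G ⧸ K) ⟨x, hx, rfl⟩
  rw [← QuotientGroup.eq_one_iff]
  rw [QuotientGroup.mk_mul, QuotientGroup.mk_mul, QuotientGroup.mk_mul, h1, QuotientGroup.mk_inv, QuotientGroup.mk_inv]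
  group

/-- `N C_G(Q)` is normal, `Q = P ∩ N` -/
theorem normal_sup_centralizer {G : Type u} [Group G] [Finite G] (P : Sylow p G) (N : Subgroup G) [hN : N.Normal] :
    (N ⊔ centralizer (((P : Subgroup G) ⊓ N : Subgroup G) : Set G)).Normal := by
  obtain ⟨Q, hQ⟩ := Transfer.FrobeniusFusion.exists_sylow_subgroupOf P N
  have hmap : (Q : Subgroup N).map N.subtype = (P : Subgroup G) ⊓ N := by
    rw [hQ, Subgroup.subgroupOf_map_subtype]
  have hfr := frattini N Q
  rw [hmap] at hfr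
  constructor
  intro y hy g
  obtain ⟨n, hn, c, hc, rfl⟩ := Subgroup.mem_sup_of_normal_left.1 hy
  obtain ⟨m, hm, hmc⟩ := hfr g
  have h1 := hmc c hc
  have h2 : g * (n * c) * g⁻¹ = (g * n * g⁻¹) * (m * (m⁻¹ * (g * c * g⁻¹) * m) * m⁻¹) := by group
  rw [h2]
  have hle : N ≤ N ⊔ centralizer (((P : Subgroup G) ⊓ N : Subgroup G) : Set G) := le_sup_left
  have hle' : centralizer (((P : Subgroup G) ⊓ N : Subgroup G) : Set G) ≤
    N ⊔ centralizer (((P : Subgroup G) ⊓ N : Subgroup G) : Set G) := le_sup_right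
  exact mul_mem (hle (hN.conj_mem n hn g)) (mul_mem (mul_mem (hle hm) (hle' h1)) (inv_mem (hle hm)))

/-- a subgroup `J` containing a Sylow subgroup `P` of `L` and the `p`-regular elements of the normal subgroup `C` of `L`
contains `C` -/
theorem le_of_pregular {L : Type u} [Group L] [Finite L] (P : Sylow p L) (C : Subgroup L) [hC : C.Normal]
    (J : Subgroup L) (hPJ : (P : Subgroup L) ≤ J) (hJ : ∀ x ∈ C, ¬ p ∣ orderOf x → x ∈ J) : C ≤ J := by
  set R : Subgroup L := closure {x | x ∈ C ∧ ¬ p ∣ orderOf x} with hR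
  have hRn : R.Normal := by
    constructor
    intro n hn g
    induction hn using Subgroup.closure_induction with
    | mem x hx =>
      apply Subgroup.subset_closure
      refine ⟨hC.conj_mem x hx.1 g, ?_⟩
      have h1 : orderOf (g * x * g⁻¹) = orderOf x := (MulAut.conj g).orderOf_eq x
      rw [h1]
      exact hx.2
    | one => simp
    | mul x y _ _ hx hy =>
      have h1 : g * (x * y) * g⁻¹ = (g * x * g⁻¹) * (g * y * g⁻¹) := by group
      rw [h1]
      exact R.mul_mem hx hy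
    | inv x _ hx =>
      have h1 : g * x⁻¹ * g⁻¹ = (g * x * g⁻¹)⁻¹ := by group
      rw [h1]
      exact R.inv_mem hx
  have hRJ : R ≤ J := by
    rw [hR, closure_le]
    exact fun x hx => hJ x hx.1 hx.2
  -- `C R / R` is a `p`-group
  have hCp : IsPGroup p (C.map (QuotientGroup.mk' R)) := by
    rintro ⟨_, x, hx, rfl⟩
    have hx0 : orderOf x ≠ 0 := (orderOf_pos x).ne'
    refine ⟨(orderOf x).factorization p, ?_⟩
    apply Subtype.ext
    show (QuotientGroup.mk' R x) ^ p ^ (orderOf x).factorization p = 1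
    rw [← map_pow]
    refine (QuotientGroup.eq_one_iff _).2 (Subgroup.subset_closure ⟨C.pow_mem hx _, ?_⟩)
    rw [orderOf_pow_of_dvd (pow_ne_zero _ hp.out.ne_zero) (Nat.ordProj_dvd _ _)]
    exact Nat.not_dvd_ordCompl hp.out hx0
  have hCn : (C.map (QuotientGroup.mk' R)).Normal := hC.map _ (QuotientGroup.mk'_surjective R)
  let P' := P.mapSurjective (QuotientGroup.mk'_surjective R)
  have h1 : IsPGroup p ((P' : Subgroup (L ⧸ R)) ⊔ C.map (QuotientGroup.mk' R) : Subgroup (L ⧸ R)) :=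
    IsPGroup.to_sup_of_normal_right P'.isPGroup' hCp
  have h2 : C.map (QuotientGroup.mk' R) ≤ (P' : Subgroup (L ⧸ R)) :=
    le_sup_right.trans (le_of_eq (P'.is_maximal' h1 le_sup_left))
  intro x hx
  obtain ⟨y, hy, hyx⟩ := h2 ⟨x, hx, rfl⟩
  have h3 : y⁻¹ * x ∈ R := QuotientGroup.eq.1 hyx
  have h4 : x = y * (y⁻¹ * x) := by group
  rw [h4]
  exact J.mul_mem (hPJ hy) (hRJ h3)

/-- a `P`-invariant character of `N` of degree prime to `p` in the principal block is invariant in `N C_G(P ∩ N) P` -/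
theorem le_inr_of_inv (hM : IsPModular p M) {G : Type u} [Group G] [Finite G] (P : Sylow p G) (N : Subgroup G)
    [hN : N.Normal] (θ : IrrCharacter N) (hθ : θ ∈ principalBlock M N) (hd : ¬ p ∣ charDegree (θ : N → ℂ))
    (hP : (P : Subgroup G) ≤ Inr N (θ : N → ℂ)) :
    (N ⊔ centralizer (((P : Subgroup G) ⊓ N : Subgroup G) : Set G)) ⊔ (P : Subgroup G) ≤ Inr N (θ : N → ℂ) := by
  refine sup_le (sup_le (le_inr θ) ?_) hP
  set Q : Subgroup G := (P : Subgroup G) ⊓ N with hQ
  have hPL : (P : Subgroup G) ≤ normalizer (Q : Set G) := by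
    intro x hx
    apply Subgroup.mem_normalizer_fintype
    intro y hy
    exact ⟨(P : Subgroup G).mul_mem ((P : Subgroup G).mul_mem hx hy.1) ((P : Subgroup G).inv_mem hx),
      hN.conj_mem _ hy.2 x⟩
  have hCL : centralizer (Q : Set G) ≤ normalizer (Q : Set G) := centralizer_le_normalizer _
  have hK' : ((centralizer (Q : Set G)).subgroupOf (normalizer (Q : Set G))).Normal := by
    constructor
    intro b hb a
    rw [Subgroup.mem_subgroupOf, Subgroup.mem_centralizer_iff] at hb ⊢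
    intro y hy
    have h1 : (a : G)⁻¹ * y * a ∈ Q := (Subgroup.mem_normalizer_iff''.1 a.2 y).1 hy
    have h2 := hb _ h1
    simp only [Subgroup.coe_mul, Subgroup.coe_inv]
    calc y * (a * b * (a : G)⁻¹) = a * (((a : G)⁻¹ * y * a) * b) * (a : G)⁻¹ := by group
      _ = a * (b * ((a : G)⁻¹ * y * a)) * (a : G)⁻¹ := by rw [h2]
      _ = a * b * (a : G)⁻¹ * y := by group
  have key := le_of_pregular (p := p) (P.subtype hPL) ((centralizer (Q : Set G)).subgroupOf (normalizer (Q : Set G)))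
    ((Inr N (θ : N → ℂ)).subgroupOf (normalizer (Q : Set G))) (fun x hx => hP hx) (by
      intro x hx hr
      have hQi : ¬ p ∣ Q.relIndex N := by
        rw [hQ, Subgroup.inf_relIndex_right]
        exact Transfer.FrobeniusFusion.not_dvd_relIndex_of_normal P N
      exact conj_fixed hM N Q (P.isPGroup'.to_le inf_le_left) inf_le_right hQi θ hθ hd (x : G) hx
        (by rwa [Subgroup.orderOf_coe]))
  intro x hx
  exact key (show (⟨x, hCL hx⟩ : ↥(normalizer (Q : Set G))) ∈ _ from hx)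

/-- no witness under the hypothesis of the theorem -/
theorem no_witness (hp2 : p ≠ 2) (hL : LemL.{u} p) (hN : ThmN.{u} p) (hM : IsPModular p M) {G : Type u} [Group G]
    [Finite G] (P : Sylow p G) (h : XX p M G) (N : Subgroup G) [hNn : N.Normal] (θ : IrrCharacter N)
    (hθ : Wit p M N θ) (hinv : ∀ g ∈ (P : Subgroup G), ∀ x : N, (θ : N → ℂ) (MulAut.conjNormal g x) = (θ : N → ℂ) x) :
    False := by
  classical
  have hMp : M.IsPrime := isPrime_of_isPModular hM
  obtain ⟨hθB, hθ1, hθd, hθr⟩ := hθ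
  set M0 : Subgroup G := N ⊔ centralizer (((P : Subgroup G) ⊓ N : Subgroup G) : Set G) with hM0
  have hM0n : M0.Normal := normal_sup_centralizer P N
  have hNM0 : N ≤ M0 := le_sup_left
  have hCM0 : centralizer (((P : Subgroup G) ⊓ N : Subgroup G) : Set G) ≤ M0 := le_sup_right
  have hCP : centralizer ((P : Subgroup G) : Set G) ≤ M0 :=
    (centralizer_le (show (((P : Subgroup G) ⊓ N : Subgroup G) : Set G) ⊆ ((P : Subgroup G) : Set G) from
      fun x hx => hx.1)).trans hCM0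
  set H : Subgroup G := M0 ⊔ (P : Subgroup G) with hH
  have hM0H : M0 ≤ H := le_sup_left
  have hPH : (P : Subgroup G) ≤ H := le_sup_right
  have hNH : N ≤ H := hNM0.trans hM0H
  have hHinr : H ≤ Inr N (θ : N → ℂ) := le_inr_of_inv hM P N θ hθB hθd hinv
  have hNHn : (N.subgroupOf H).Normal := hNn.subgroupOf _
  have hM0Hn : (M0.subgroupOf H).Normal := hM0n.subgroupOf _
  obtain ⟨Qs, hQs⟩ := Transfer.FrobeniusFusion.exists_sylow_subgroupOf (P.subtype hPH) (N.subgroupOf H)
  have hQm : (Qs : Subgroup (N.subgroupOf H)).map (N.subgroupOf H).subtype =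
      ((P : Subgroup G) ⊓ N).subgroupOf H := by
    rw [hQs, Subgroup.subgroupOf_map_subtype]
    rfl
  have hcen : centralizer ((((P : Subgroup G) ⊓ N).subgroupOf H : Subgroup H) : Set H) =
      (centralizer (((P : Subgroup G) ⊓ N : Subgroup G) : Set G)).subgroupOf H := by
    ext x
    rw [Subgroup.mem_subgroupOf, Subgroup.mem_centralizer_iff, Subgroup.mem_centralizer_iff]
    constructor
    · intro hx y hy
      exact congrArg Subtype.val (hx ⟨y, hPH hy.1⟩ hy)
    · intro hx y hy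
      exact Subtype.ext (hx (y : G) hy)
  obtain ⟨χ0, hχ0B, hχ0r, hχ0⟩ := S4892.result (G := H) p hp2 M hM (N.subgroupOf H) (up N θ hNH)
    (by
      rintro g n n' hn
      rw [up_apply, up_apply]
      have h1 := hHinr g.2 ⟨((n : H) : G), n.2⟩
      rw [← h1]
      refine congrArg (θ : N → ℂ) (Subtype.ext ?_)
      show ((n' : H) : G) = g * ((n : H) : G) * (g : G)⁻¹
      rw [hn]
      rfl) (by rw [up_degree]; exact hθd) (by
      obtain ⟨m, hm, hr⟩ := hθr
      exact ⟨m, hm, fun n => hr _⟩) (mapIrr_mem _ hθB) Qs (by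
      obtain ⟨k, hk⟩ := relIndex_sup_pow M0 (P : Subgroup G) P.isPGroup'
      refine ⟨k, ?_⟩
      rw [hQm, hcen, ← Subgroup.subgroupOf_sup hNH (hCM0.trans hM0H)]
      exact hk)
  have hχ0' : ∀ n : N, (χ0 : H → ℂ) ⟨n, hNH n.2⟩ = (θ : N → ℂ) n := fun n => hχ0 ⟨⟨n, hNH n.2⟩, n.2⟩
  -- the restriction to `M0`
  have hψirr : IsIrrCharacter M0 ((χ0 : H → ℂ) ∘ Subgroup.inclusion hM0H) := by
    apply CharactersDeep.MaxInduced.isIrr_of_comp (Subgroup.inclusion hNM0)
      (Characters.Core.isCharacter_comp (Subgroup.inclusion hM0H) (irr_isCharacter χ0.2))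
    have h5 : ((χ0 : H → ℂ) ∘ Subgroup.inclusion hM0H) ∘ Subgroup.inclusion hNM0 = (θ : N → ℂ) := by
      funext n
      exact hχ0' n
    rw [h5]
    exact θ.2
  let ψ : IrrCharacter M0 := ⟨_, hψirr⟩
  have hψ : ∀ x : M0, (ψ : M0 → ℂ) x = (χ0 : H → ℂ) ⟨x, hM0H x.2⟩ := fun x => rfl
  have hψB : ψ ∈ principalBlock M M0 := by
    have := Fintype.ofFinite H
    have := Fintype.ofFinite (M0.subgroupOf H)
    obtain ⟨g, θ', hθ', hg⟩ := S0964.result p M hM (M0.subgroupOf H) (principalBlock M H) (isPBlock_principal M H)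
      (principalBlock M (M0.subgroupOf H)) (isPBlock_principal M _) (oneIrr H) one_mem_principal
      (oneIrr (M0.subgroupOf H)) one_mem_principal (by
        show classInner (fun _ : M0.subgroupOf H => (1 : ℂ)) (fun _ : M0.subgroupOf H => (1 : ℂ)) ≠ 0
        rw [classInner_def]
        simp) χ0 hχ0B (up M0 ψ hM0H) (by
        have h6 : (fun n : M0.subgroupOf H => (χ0 : H → ℂ) n) = (up M0 ψ hM0H : M0.subgroupOf H → ℂ) := by
          funext n
          rw [up_apply, hψ]
        rw [h6, Characters.Core.classInner_irr (up M0 ψ hM0H).2 (up M0 ψ hM0H).2, if_pos rfl]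
        exact one_ne_zero)
    have h7 : up M0 ψ hM0H = mapIrr (MulAut.conjNormal (H := M0.subgroupOf H) g) θ' := by
      apply Subtype.ext
      funext n
      rw [hg, mapIrr_apply]
      rfl
    have h8 : ψ = mapIrr (Subgroup.subgroupOfEquivOfLe hM0H).symm (up M0 ψ hM0H) := by
      apply Subtype.ext
      funext n
      rw [mapIrr_apply, up_apply]
      rfl
    rw [h8, h7]
    exact mapIrr_mem _ (mapIrr_mem _ hθ')
  have hψ1 : (ψ : M0 → ℂ) 1 = (θ : N → ℂ) 1 := hχ0' 1
  obtain ⟨χ, hχd, hχr, hχo⟩ := hL P M0 (sn_of_XX hM hN P h M0 hCP) ψ (by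
      rw [charDegree_def, hψ1, ← charDegree_def]; exact hθd) (pRat_comp (Subgroup.inclusion hM0H) hχ0r) (by
      intro g hg x
      rw [hψ, hψ]
      exact irr_conj χ0.2 ⟨x, hM0H x.2⟩ ⟨g, hPH hg⟩)
  have hχ1 := h χ (mem_of_over hM P M0 hCP ψ hψB χ hχo hχd) hχd hχr
  have := Fintype.ofFinite M0
  rw [ov_iff, hχ1] at hχo
  have h9 : (fun _ : M0 => (1 : ℂ)) = (ψ : M0 → ℂ) := by
    by_contra hne
    apply hχo
    rw [Characters.Core.classInner_irr isIrrCharacter_one ψ.2, if_neg hne]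
  apply hθ1
  funext n
  rw [← hχ0' n]
  exact (congrFun h9 ⟨n, hNM0 n.2⟩).symm

/-- the main induction -/
theorem comm_of_XX (hp2 : p ≠ 2) (hL : LemL.{u} p) (hN : ThmN.{u} p) (hE : ExTh.{u} p) (hM : IsPModular p M) (n : ℕ) :
    ∀ {G : Type u} [Group G] [Finite G], Nat.card G = n → ∀ P : Sylow p G, XX p M G → ∀ g : G, ¬ p ∣ orderOf g →
      (∀ x ∈ (P : Subgroup G), g * x * g⁻¹ ∈ (P : Subgroup G)) → ∀ x ∈ (P : Subgroup G), g * x = x * g := by
  induction n using Nat.strong_induction_on with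
  | _ n ih =>
  intro G _ _ hn P h g hr hgP
  -- quotients
  have hquot : ∀ K : Subgroup G, K.Normal → K ≠ ⊥ → ∀ x ∈ (P : Subgroup G), g * x * g⁻¹ * x⁻¹ ∈ K := by
    intro K hK hK1
    apply comm_quot hM P h K _ hr hgP
    intro P' h'
    refine ih (Nat.card (G ⧸ K)) ?_ rfl P' h'
    rw [← hn]
    have h1 := K.card_eq_card_quotient_mul_card_subgroup
    have h2 : 1 < Nat.card K := (Subgroup.one_lt_card_iff_ne_bot K).2 hK1
    rw [h1]
    exact lt_mul_of_one_lt_right Nat.card_pos h2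
  by_cases hG : Nontrivial G
  swap
  · intro x _
    rw [not_nontrivial_iff_subsingleton] at hG
    exact Subsingleton.elim _ _
  obtain ⟨N, hNn, hN1, hmin⟩ := Lib.SubnormalJoin.exists_minimal_normal G
  have hmem : ∀ x ∈ (P : Subgroup G), g * x * g⁻¹ * x⁻¹ ∈ (P : Subgroup G) ⊓ N := fun x hx =>
    ⟨(P : Subgroup G).mul_mem (hgP x hx) ((P : Subgroup G).inv_mem hx), hquot N hNn hN1 x hx⟩
  have hQp : IsPGroup p ↥((P : Subgroup G) ⊓ N) := P.isPGroup'.to_le inf_le_left
  -- it is enough to centralize `P ∩ N`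
  suffices hs : g ∈ centralizer (((P : Subgroup G) ⊓ N : Subgroup G) : Set G) by
    apply comm_of_cent hQp _ hmem hr
    intro x hx
    exact (Subgroup.mem_centralizer_iff.1 hs x hx).symm
  by_cases hpN : p ∣ Nat.card N
  swap
  · -- `N` is a `p'`-group
    have h1 : (P : Subgroup G) ⊓ N = ⊥ := by
      apply Subgroup.eq_bot_of_card_eq
      obtain ⟨k, hk⟩ := IsPGroup.iff_card.1 hQp
      have h2 : Nat.card ↥((P : Subgroup G) ⊓ N) ∣ Nat.card N := Subgroup.card_dvd_of_le inf_le_right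
      rcases Nat.eq_zero_or_pos k with hk0 | hk0
      · rw [hk, hk0, pow_zero]
      · exfalso
        apply hpN
        rw [hk] at h2
        exact (dvd_pow_self p hk0.ne').trans h2
    rw [h1, Subgroup.mem_centralizer_iff]
    intro y hy
    rw [Subgroup.coe_bot, Set.mem_singleton_iff] at hy
    rw [hy, one_mul, mul_one]
  have hM0n := normal_sup_centralizer P N
  have hCP : centralizer ((P : Subgroup G) : Set G) ≤
      N ⊔ centralizer (((P : Subgroup G) ⊓ N : Subgroup G) : Set G) :=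
    (centralizer_le (show (((P : Subgroup G) ⊓ N : Subgroup G) : Set G) ⊆ ((P : Subgroup G) : Set G) from
      fun x hx => hx.1)).trans le_sup_right
  have hgM0 : g ∈ N ⊔ centralizer (((P : Subgroup G) ⊓ N : Subgroup G) : Set G) :=
    mem_of_sn P.isPGroup' (sn_of_XX hM hN P h _ hCP) hgP hr
  by_cases hab : ∀ x ∈ N, ∀ y ∈ N, Commute x y
  · -- `N` abelian: an elementary abelian `p`-group
    have hNP : (P : Subgroup G) ⊓ N = N := by
      rw [inf_eq_right]
      let T : Subgroup G :=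
        { carrier := {x | x ∈ N ∧ x ^ p = 1}
          one_mem' := ⟨N.one_mem, one_pow p⟩
          mul_mem' := by
            rintro a b ⟨ha, ha'⟩ ⟨hb, hb'⟩
            exact ⟨N.mul_mem ha hb, by rw [(hab a ha b hb).mul_pow, ha', hb', one_mul]⟩
          inv_mem' := by
            rintro a ⟨ha, ha'⟩
            exact ⟨N.inv_mem ha, by rw [inv_pow, ha', inv_one]⟩ }
      have hT : ∀ x, x ∈ T ↔ x ∈ N ∧ x ^ p = 1 := fun x => Iff.rfl
      have hTn : T.Normal := by
        constructor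
        rintro x ⟨hx, hx'⟩ y
        refine ⟨hNn.conj_mem x hx y, ?_⟩
        have h1 : (y * x * y⁻¹) ^ p = y * x ^ p * y⁻¹ := conj_pow
        rw [h1, hx', mul_one, mul_inv_cancel]
      rcases hmin T hTn (fun x hx => hx.1) with h1 | h1
      · exfalso
        obtain ⟨x, hx⟩ := exists_prime_orderOf_dvd_card' p hpN
        have h2 : (x : G) ∈ T := (hT _).2 ⟨x.2, by
          have h3 := pow_orderOf_eq_one x
          rw [hx] at h3
          exact congrArg Subtype.val h3⟩
        rw [h1, Subgroup.mem_bot] at h2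
        have h3 : x = 1 := Subtype.ext h2
        rw [h3, orderOf_one] at hx
        exact hp.out.one_lt.ne hx
      · have hNp : IsPGroup p N := by
          rintro ⟨x, hx⟩
          refine ⟨1, Subtype.ext ?_⟩
          rw [← h1] at hx
          show x ^ p ^ 1 = 1
          rw [pow_one]
          exact hx.2
        have h2 : IsPGroup p ((P : Subgroup G) ⊔ N : Subgroup G) :=
          IsPGroup.to_sup_of_normal_right P.isPGroup' hNp
        exact le_sup_right.trans (le_of_eq (P.is_maximal' h2 le_sup_left))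
    rw [hNP] at hgM0 ⊢
    have h1 : N ⊔ centralizer (N : Set G) = centralizer (N : Set G) := by
      rw [sup_eq_right]
      intro x hx
      rw [Subgroup.mem_centralizer_iff]
      intro y hy
      exact hab y hy x hx
    rwa [h1] at hgM0
  · rcases hE hM P N hmin hab hpN with ⟨θ, hθ, hinv⟩ | hex
    · exact (no_witness hp2 hL hN hM P h N θ hθ hinv).elim
    · exact cent_of_exc P N _ rfl hex hgM0 hr hgP

/-- **(R5)** the direction `⇐` of S4891 -/
theorem main (hp2 : p ≠ 2) (hL : LemL.{u} p) (hN : ThmN.{u} p) (hE : ExTh.{u} p) (hM : IsPModular p M)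
    {G : Type u} [Group G] [Finite G] (P : Sylow p G)
    (h : ∀ χ : IrrCharacter G, χ ∈ principalBlock M G → ¬ p ∣ charDegree (χ : G → ℂ) → PRat p (χ : G → ℂ) →
      (χ : G → ℂ) = fun _ => (1 : ℂ)) :
    HasNormalPComplement p ↥(normalizer ((P : Subgroup G) : Set G)) :=
  hasCompl P fun g hr hgP => comm_of_XX hp2 hL hN hE hM (Nat.card G) rfl P h g hr hgP

end Cfsg.Agent.H627.BR
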