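import Mathlib
import Cfsg.Agent.H627.BR.Main
import Cfsg.Agent.Characters.GaloisIrr
import Cfsg.Agent.Characters.Linear
import Cfsg.Agent.Blocks.PrincipalKernel

/-!
# S4891, step (R6): the direction `⇒`, from the conclusion of S4951
-/

set_option autoImplicit false

open Subgroup
open scoped Pointwise

namespace Cfsg.Agent.H627.BR

open Cfsg Cfsg.Agent.H145.BR Cfsg.Agent.Blocks.Local Cfsg.Agent.Blocks.Basic Cfsg.Agent.H700.PrinCrit
  Cfsg.Agent.H700.PrinExt Cfsg.Agent.H700.PRatExt Cfsg.Agent.H700.PRat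

universe u

variable {p : ℕ} [hp : Fact p.Prime] {M : Ideal AlgInt}

/-- the normal complement of `N_G(P)` -/
theorem exists_compl {G : Type u} [Group G] [Finite G] (P : Sylow p G)
    (hN : HasNormalPComplement p ↥(normalizer ((P : Subgroup G) : Set G))) :
    ∃ K : Subgroup ↥(normalizer ((P : Subgroup G) : Set G)), K.Normal ∧ ¬ p ∣ Nat.card K ∧
      (∀ k ∈ K, ∀ x ∈ (P : Subgroup G), (k : G) * x = x * k) ∧
      ∀ g : ↥(normalizer ((P : Subgroup G) : Set G)), ∃ k ∈ K, ∃ x : G, ∃ hx : x ∈ (P : Subgroup G),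
        g = k * ⟨x, le_normalizer hx⟩ := by
  obtain ⟨K, hK, hc⟩ := (Transfer.NormalPComplement.hasNormalPComplement_iff_sylow
    (P.subtype (le_normalizer : (P : Subgroup G) ≤ normalizer ((P : Subgroup G) : Set G)))).1 hN
  have hKp : ¬ p ∣ Nat.card K := by
    rw [← hc.index_eq_card]
    exact (P.subtype (le_normalizer : (P : Subgroup G) ≤ normalizer ((P : Subgroup G) : Set G))).not_dvd_index
  refine ⟨K, hK, hKp, ?_, ?_⟩
  · intro k hk x hx
    let x' : ↥(normalizer ((P : Subgroup G) : Set G)) := ⟨x, le_normalizer hx⟩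
    have h1 : k * x' * k⁻¹ * x'⁻¹ ∈ K := by
      have h2 : k * x' * k⁻¹ * x'⁻¹ = k * (x' * k⁻¹ * x'⁻¹) := by group
      rw [h2]
      exact K.mul_mem hk (hK.conj_mem _ (K.inv_mem hk) x')
    have h2 : k * x' * k⁻¹ * x'⁻¹ ∈
        ((P.subtype (le_normalizer : (P : Subgroup G) ≤ normalizer ((P : Subgroup G) : Set G)) :
          Sylow p ↥(normalizer ((P : Subgroup G) : Set G))) : Subgroup ↥(normalizer ((P : Subgroup G) : Set G))) := by
      show (k : G) * x * (k : G)⁻¹ * x⁻¹ ∈ (P : Subgroup G)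
      exact (P : Subgroup G).mul_mem ((Subgroup.mem_normalizer_iff.1 k.2 x).1 hx) ((P : Subgroup G).inv_mem hx)
    have h3 : k * x' * k⁻¹ * x'⁻¹ = 1 := by
      have h4 := hc.disjoint
      rw [Subgroup.disjoint_def] at h4
      exact h4 h1 h2
    have h4 : (k : G) * x * (k : G)⁻¹ * x⁻¹ = 1 := congrArg Subtype.val h3
    have h5 : (k : G) * x * (k : G)⁻¹ = x := by
      rw [mul_inv_eq_one] at h4
      exact h4
    exact mul_inv_eq_iff_eq_mul.1 h5
  · intro g
    obtain ⟨⟨a, b⟩, hab⟩ := hc.existsUnique g |>.exists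
    exact ⟨a, a.2, (b : ↥(normalizer ((P : Subgroup G) : Set G))), b.2, hab.symm⟩

/-- `N_G(P) = P C_G(P)` -/
theorem dec_of_compl {G : Type u} [Group G] [Finite G] (P : Sylow p G)
    (hN : HasNormalPComplement p ↥(normalizer ((P : Subgroup G) : Set G))) :
    normalizer ((P : Subgroup G) : Set G) = (P : Subgroup G) ⊔ centralizer ((P : Subgroup G) : Set G) := by
  apply le_antisymm
  · intro g hg
    obtain ⟨K, hK, hKp, hKc, hKd⟩ := exists_compl P hN
    obtain ⟨k, hk, x, hx, hgx⟩ := hKd ⟨g, hg⟩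
    have h1 : g = (k : G) * x := congrArg Subtype.val hgx
    rw [h1]
    refine mul_mem ((le_sup_right : centralizer ((P : Subgroup G) : Set G) ≤ _) ?_)
      ((le_sup_left : (P : Subgroup G) ≤ _) hx)
    rw [Subgroup.mem_centralizer_iff]
    intro y hy
    exact (hKc k hk y hy).symm
  · exact sup_le le_normalizer (centralizer_le_normalizer _)

/-- **(R6)** the direction `⇒` of S4891 from the conclusion of S4951 -/
theorem easy_core (hp2 : p ≠ 2) (hM : IsPModular p M) {G : Type u} [Group G] [Fintype G]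
    (P : Sylow p G) [Fintype ↥(normalizer ((P : Subgroup G) : Set G))]
    (hN : HasNormalPComplement p ↥(normalizer ((P : Subgroup G) : Set G)))
    (hA : ∀ χ : IrrCharacter G, χ ∈ principalBlock M G → ¬ p ∣ charDegree (χ : G → ℂ) →
      (∃! μ : IrrCharacter ↥(normalizer ((P : Subgroup G) : Set G)),
        charDegree (μ : ↥(normalizer ((P : Subgroup G) : Set G)) → ℂ) = 1 ∧
          classInner (fun x : ↥(normalizer ((P : Subgroup G) : Set G)) => (χ : G → ℂ) x)
            (μ : ↥(normalizer ((P : Subgroup G) : Set G)) → ℂ) ≠ 0) ∧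
      (∀ μ : IrrCharacter ↥(normalizer ((P : Subgroup G) : Set G)),
        classInner (fun x : ↥(normalizer ((P : Subgroup G) : Set G)) => (χ : G → ℂ) x)
            (μ : ↥(normalizer ((P : Subgroup G) : Set G)) → ℂ) ≠ 0 →
          (charDegree (μ : ↥(normalizer ((P : Subgroup G) : Set G)) → ℂ) = 1 ∧
            μ ∈ principalBlock M ↥(normalizer ((P : Subgroup G) : Set G)) ∧
            classInner (fun x : ↥(normalizer ((P : Subgroup G) : Set G)) => (χ : G → ℂ) x)
              (μ : ↥(normalizer ((P : Subgroup G) : Set G)) → ℂ) = 1) ∨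
          p ∣ charDegree (μ : ↥(normalizer ((P : Subgroup G) : Set G)) → ℂ)))
    (hB : ∀ μ : IrrCharacter ↥(normalizer ((P : Subgroup G) : Set G)),
      μ ∈ principalBlock M ↥(normalizer ((P : Subgroup G) : Set G)) →
      charDegree (μ : ↥(normalizer ((P : Subgroup G) : Set G)) → ℂ) = 1 →
        ∃! χ : IrrCharacter G, χ ∈ principalBlock M G ∧ ¬ p ∣ charDegree (χ : G → ℂ) ∧
          classInner (fun x : ↥(normalizer ((P : Subgroup G) : Set G)) => (χ : G → ℂ) x)
            (μ : ↥(normalizer ((P : Subgroup G) : Set G)) → ℂ) ≠ 0)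
    (χ : IrrCharacter G) (h1 : χ ∈ principalBlock M G) (h2 : ¬ p ∣ charDegree (χ : G → ℂ))
    (h3 : PRat p (χ : G → ℂ)) : (χ : G → ℂ) = fun _ => (1 : ℂ) := by
  classical
  have hMp : M.IsPrime := isPrime_of_isPModular hM
  obtain ⟨K, hK, hKp, hKc, hKd⟩ := exists_compl P hN
  obtain ⟨⟨μ, ⟨hμ1, hμ2⟩, hμu⟩, hall⟩ := hA χ h1 h2
  have hμB : μ ∈ principalBlock M ↥(normalizer ((P : Subgroup G) : Set G)) := by
    rcases hall μ hμ2 with h | h
    · exact h.2.1
    · rw [hμ1] at h
      exact absurd (Nat.dvd_one.1 h) hp.out.one_lt.ne'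
  have hμ11 : (μ : ↥(normalizer ((P : Subgroup G) : Set G)) → ℂ) 1 = 1 := by
    rw [irr_one_eq_charDegree μ.2, hμ1, Nat.cast_one]
  obtain ⟨l, hl⟩ := Characters.Linear.exists_hom_of_isIrrCharacter μ.2 hμ11
  obtain ⟨n, hn, hrat⟩ := h3
  -- `μ` is fixed by the automorphisms which fix `ζ_n`
  have hfix : ∀ σ : ℂ ≃+* ℂ, σ (zet n) = zet n → ∀ x, σ ((μ : ↥(normalizer ((P : Subgroup G) : Set G)) → ℂ) x) =
      (μ : ↥(normalizer ((P : Subgroup G) : Set G)) → ℂ) x := by
    intro σ hσ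
    have hirr := Characters.GaloisIrr.isIrr_map σ μ.2
    have h4 : (⟨_, hirr⟩ : IrrCharacter ↥(normalizer ((P : Subgroup G) : Set G))) = μ := by
      apply hμu
      constructor
      · apply charDegree_of_eq
        show σ ((μ : ↥(normalizer ((P : Subgroup G) : Set G)) → ℂ) 1) = ((1 : ℕ) : ℂ)
        rw [hμ11, map_one, Nat.cast_one]
      · have h5 := Characters.GaloisIrr.classInner_map σ
          (χ := fun x : ↥(normalizer ((P : Subgroup G) : Set G)) => (χ : G → ℂ) x) (irr_isCharacter μ.2)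
        have h6 : (fun g : ↥(normalizer ((P : Subgroup G) : Set G)) => σ ((χ : G → ℂ) g)) =
            fun g : ↥(normalizer ((P : Subgroup G) : Set G)) => (χ : G → ℂ) g :=
          funext fun g => fix_adjoin σ hσ (hrat g)
        rw [h6] at h5
        show classInner (fun x : ↥(normalizer ((P : Subgroup G) : Set G)) => (χ : G → ℂ) x)
          (fun g => σ ((μ : ↥(normalizer ((P : Subgroup G) : Set G)) → ℂ) g)) ≠ 0
        rw [h5]
        exact (map_ne_zero_iff σ σ.injective).2 hμ2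
    intro x
    exact congrFun (congrArg Subtype.val h4) x
  -- `μ` is trivial on `P`
  have hP1 : ∀ x (hx : x ∈ (P : Subgroup G)),
      (μ : ↥(normalizer ((P : Subgroup G) : Set G)) → ℂ) ⟨x, le_normalizer hx⟩ = 1 := by
    intro x hx
    obtain ⟨k, hk⟩ := P.isPGroup' ⟨x, hx⟩
    have hk' : x ^ p ^ k = 1 := congrArg Subtype.val hk
    have h4 : (μ : ↥(normalizer ((P : Subgroup G) : Set G)) → ℂ) ⟨x, le_normalizer hx⟩ ^ p ^ k = 1 := by
      rw [hl]
      show ((l ⟨x, le_normalizer hx⟩ : ℂˣ) : ℂ) ^ p ^ k = 1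
      rw [← Units.val_pow_eq_pow_val, ← map_pow]
      have h5 : (⟨x, le_normalizer hx⟩ : ↥(normalizer ((P : Subgroup G) : Set G))) ^ p ^ k = 1 := Subtype.ext hk'
      rw [h5, map_one, Units.val_one]
    have h5 := pow_ordCompl_eq_one hp.out hp2 hn (pow_ne_zero k hp.out.ne_zero) h4 (fun σ hσ => hfix σ hσ _)
    rwa [hp.out.factorization_pow, Finsupp.single_eq_same, Nat.div_self (pow_pos hp.out.pos k), pow_one] at h5
  -- and on `K`
  have hμ : μ = oneIrr ↥(normalizer ((P : Subgroup G) : Set G)) := by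
    apply Subtype.ext
    funext g
    obtain ⟨k, hk, x, hx, rfl⟩ := hKd g
    have h4 := Blocks.PrincipalKernel.principalBlock_apply_eq hM hKp hμB hk
    have h5 : (μ : ↥(normalizer ((P : Subgroup G) : Set G)) → ℂ) (k * ⟨x, le_normalizer hx⟩) =
        (μ : ↥(normalizer ((P : Subgroup G) : Set G)) → ℂ) k *
          (μ : ↥(normalizer ((P : Subgroup G) : Set G)) → ℂ) ⟨x, le_normalizer hx⟩ := by
      rw [hl]
      show ((l (k * ⟨x, le_normalizer hx⟩) : ℂˣ) : ℂ) = (l k : ℂ) * (l ⟨x, le_normalizer hx⟩ : ℂ)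
      rw [map_mul, Units.val_mul]
    rw [h5, h4, hμ11, hP1 x hx, one_mul]
    rfl
  obtain ⟨χ', -, hu⟩ := hB μ hμB hμ1
  have e1 := hu χ ⟨h1, h2, hμ2⟩
  have e2 := hu (oneIrr G) ⟨one_mem_principal, by
    have h4 : charDegree ((oneIrr G : IrrCharacter G) : G → ℂ) = 1 := charDegree_of_eq (by simp [oneIrr])
    rw [h4]
    exact fun h => hp.out.one_lt.ne' (Nat.dvd_one.1 h), by
    rw [hμ]
    show classInner (fun _ : ↥(normalizer ((P : Subgroup G) : Set G)) => (1 : ℂ))
      (fun _ : ↥(normalizer ((P : Subgroup G) : Set G)) => (1 : ℂ)) ≠ 0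
    rw [classInner_def]
    simp⟩
  rw [e1, ← e2]
  rfl

end Cfsg.Agent.H627.BR
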